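import Mathlib

/-!
# NO-3S, `TwoOne` / `CompP`, `k ≥ 2`, planes allowed (helper409's #19417), pure form: the structure

`H` acts on the elementary abelian 2-group `M`; `L` = the line vectors, `A l`, `I l`, `al l` (`l ∈ L`) the data of the line
`l`; `E l = {m | al l m = 1}`, `D l` = the vectors fixed by `A l`.  S-pair: `al l m ≠ 1`, `al m l ≠ 1`.

* `Gen` : the fields (0.1)-(0.7) of #19417 (SIGMA is a theorem: `PP/Sigma.lean`)
* `Gen.inter`, `Gen.tri`, `Gen.inj` : `A l ∩ A m ≠ 1` ⟹ `m ∈ I l`, `l + m ∈ L`, `A l ∩ A m ≤ A (l + m)`; `A l ≤ A m` ⟹ `l = m`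
* `Gen.disj` : an S-pair has `A l ∩ A m = 1`
* `Gen.sep` : for `x ∈ A l` not in the subgroup `⟨s⟩` of `A l` some `e ∈ E l` is fixed by `s`, not by `x`
-/

set_option autoImplicit false
set_option linter.unusedSimpArgs false

namespace Cfsg.Agent.Omega.NO3S.TwoOne.PP

/-- the fields of #19417 (planes allowed) -/
structure Gen {M H : Type*} [AddCommGroup M] [Group H] [DistribMulAction H M] (L : Set M) (A : M → Subgroup H)
    (I : M → AddSubgroup M) (al : M → M → H) : Prop where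
  two : ∀ m : M, m + m = 0
  zero : (0 : M) ∉ L
  gen : AddSubgroup.closure L = ⊤
  smul : ∀ (h : H) {l : M}, l ∈ L → h • l ∈ L
  trans : ∀ {l m : M}, l ∈ L → m ∈ L → ∃ h : H, h • l = m
  A_conj : ∀ (h : H) {l : M} {a : H}, l ∈ L → a ∈ A l → h * a * h⁻¹ ∈ A (h • l)
  I_conj : ∀ (h : H) {l u : M}, l ∈ L → u ∈ I l → h • u ∈ I (h • l)
  sq : ∀ {l : M} {a : H}, l ∈ L → a ∈ A l → a * a = 1
  four : ∀ {l : M}, l ∈ L → 4 ≤ Nat.card (A l)
  self : ∀ {l : M}, l ∈ L → l ∈ I l
  comm : ∀ {l : M} {a : H}, l ∈ L → a ∈ A l → ∀ m : M, a • m + m ∈ I l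
  fix : ∀ {l : M} {a : H} {u : M}, l ∈ L → a ∈ A l → u ∈ I l → a • u = u
  al_mem : ∀ {l : M}, l ∈ L → ∀ m, al l m ∈ A l
  al_add : ∀ {l : M}, l ∈ L → ∀ m m', al l (m + m') = al l m * al l m'
  al_surj : ∀ {l : M} {a : H}, l ∈ L → a ∈ A l → ∃ m, al l m = a
  al_smul : ∀ (h : H) {l : M}, l ∈ L → ∀ m, al (h • l) (h • m) = h * al l m * h⁻¹
  al_ker : ∀ {l : M}, l ∈ L → ∀ m, al l m = 1 ↔ ∀ a ∈ A l, a • m = m ∨ a • m = m + l
  sy : ∀ {l : M}, l ∈ L → ∀ m m', al l m' • m + m + (al l m • m' + m') = 0 ∨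
    al l m' • m + m + (al l m • m' + m') = l
  phi : ∀ {l : M} {a : H}, l ∈ L → a ∈ A l → a ≠ 1 → ∃ e, al l e = 1 ∧ a • e = e + l
  /-- (FU) -/
  Kt : ∀ {l u : M}, l ∈ L → u ∈ I l → u ≠ 0 → u ≠ l → ∃ c : H, c • l = l ∧ c • u = u + l ∧ ∀ a ∈ A l, c * a = a * c
  /-- THEOREM P -/
  nrm : ∀ {l : M} {h : H}, l ∈ L → (∀ a ∈ A l, h * a * h⁻¹ ∈ A l) → h • l = l
  /-- (S1) -/
  s1 : ∀ {l m : M}, l ∈ L → m ∈ L → al l m ≠ 1 → al m l ≠ 1 → ∀ e, al l e = 1 → al l m • e = e →
    ∃ j ∈ I m, al l j = 1 ∧ ∀ b ∈ A l, b • j + j = b • e + e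
  /-- (S3) -/
  s3 : ∀ {l m : M}, l ∈ L → m ∈ L → al l m ≠ 1 → al m l ≠ 1 → (∃ a ∈ A l, al m (a • m + m) ≠ 1) →
    ∀ e, al l e = 1 → ∃ j ∈ I m, al l j = 1 ∧ ∀ b ∈ A l, b • j + j = b • e + e
  /-- ALPHA -/
  alpha : ∀ {l m : M}, l ∈ L → m ∈ L → al l m ≠ 1 → al m l ≠ 1 → ∀ u ∈ I l, u ∈ I m → u ≠ 0 → al l m • m = m
  /-- KAPPA -/
  kappa : ∀ {l m : M}, l ∈ L → m ∈ L → al l m ≠ 1 → al m l ≠ 1 → ∀ x, al l x • x ≠ x → al l x • x ≠ x + l →
    al m (al l x • m + m + l) ≠ 1 → ∃ u ∈ I l, u ∈ I m ∧ u ≠ 0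
  /-- Baer-Suzuki -/
  bs : ∀ {l : M} {a : H}, l ∈ L → a ∈ A l → a ≠ 1 → ∃ o : H, o ≠ 1 ∧ Odd (orderOf o) ∧ a * o * a = o⁻¹

namespace Gen

variable {M H : Type*} [AddCommGroup M] [Group H] [DistribMulAction H M] {L : Set M} {A : M → Subgroup H}
    {I : M → AddSubgroup M} {al : M → M → H} (G : Gen L A I al)
include G

theorem two_left (x y : M) : x + (x + y) = y := by
  rw [← add_assoc, G.two, zero_add]

theorem two_right (x y : M) : x + y + y = x := by
  rw [add_assoc, G.two, add_zero]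

theorem eq_of_add {x y : M} (h : x + y = 0) : x = y := by
  rw [← G.two_right x y, h, zero_add]

theorem eq_add_of {x y v : M} (h : x + y = v) : x = y + v := by
  rw [← h, add_comm x y, G.two_left]

theorem ne_zero {l : M} (hl : l ∈ L) : l ≠ 0 := fun e => G.zero (e ▸ hl)

theorem add_ne {l : M} (hl : l ∈ L) (m : M) : m + l ≠ m := fun e => G.ne_zero hl (by
  have : m + l = m + 0 := by rw [e, add_zero]
  exact add_left_cancel this)

theorem inv {l : M} {a : H} (hl : l ∈ L) (ha : a ∈ A l) : a⁻¹ = a :=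
  inv_eq_of_mul_eq_one_left (G.sq hl ha)

theorem smul_smul_self {l : M} {a : H} (hl : l ∈ L) (ha : a ∈ A l) (m : M) : a • (a • m) = m := by
  rw [← mul_smul, G.sq hl ha, one_smul]

theorem A_comm {l : M} {a b : H} (hl : l ∈ L) (ha : a ∈ A l) (hb : b ∈ A l) : a * b = b * a := by
  have h := G.sq hl (mul_mem ha hb)
  calc a * b = (a * b)⁻¹ := (inv_eq_of_mul_eq_one_left h).symm
    _ = b * a := by rw [mul_inv_rev, G.inv hl ha, G.inv hl hb]

/-- conjugate by an element fixing `l` -/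
theorem A_conj_fix {l : M} {a h : H} (hl : l ∈ L) (ha : a ∈ A l) (hhl : h • l = l) : h * a * h⁻¹ ∈ A l := by
  have := G.A_conj h hl ha
  rwa [hhl] at this

theorem A_conj_mul {l : M} {a h : H} (hl : l ∈ L) (ha : a ∈ A l) (hh : h * h = 1) : h * a * h ∈ A (h • l) := by
  have := G.A_conj h hl ha
  rwa [inv_eq_of_mul_eq_one_left hh] at this

/-- conjugate by an involution fixing `l` -/
theorem A_conj' {l : M} {a h : H} (hl : l ∈ L) (ha : a ∈ A l) (hh : h * h = 1) (hhl : h • l = l) :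
    h * a * h ∈ A l := by
  have := G.A_conj_mul hl ha hh
  rwa [hhl] at this

theorem I_conj' {l u : M} {h : H} (hl : l ∈ L) (hu : u ∈ I l) (hhl : h • l = l) : h • u ∈ I l := by
  have := G.I_conj h hl hu
  rwa [hhl] at this

theorem A_conj_iff {l : M} {a h : H} (hl : l ∈ L) : h * a * h⁻¹ ∈ A (h • l) ↔ a ∈ A l := by
  refine ⟨fun h1 => ?_, G.A_conj h hl⟩
  have := G.A_conj h⁻¹ (G.smul h hl) h1
  rw [inv_smul_smul] at this
  have e : h⁻¹ * (h * a * h⁻¹) * h⁻¹⁻¹ = a := by group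
  rwa [e] at this

theorem I_conj_iff {l u : M} {h : H} (hl : l ∈ L) : h • u ∈ I (h • l) ↔ u ∈ I l := by
  refine ⟨fun h1 => ?_, G.I_conj h hl⟩
  have := G.I_conj h⁻¹ (G.smul h hl) h1
  rwa [inv_smul_smul, inv_smul_smul] at this

theorem al_conj {l : M} {h : H} (hl : l ∈ L) (hhl : h • l = l) (m : M) : al l (h • m) = h * al l m * h⁻¹ := by
  have := G.al_smul h hl m
  rwa [hhl] at this

theorem A_fix {l : M} {a : H} (hl : l ∈ L) (ha : a ∈ A l) : a • l = l := G.fix hl ha (G.self hl)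

theorem al_I_one {l u : M} (hl : l ∈ L) (hu : u ∈ I l) : al l u = 1 :=
  (G.al_ker hl u).2 fun _ ha => Or.inl (G.fix hl ha hu)

theorem al_self {l : M} (hl : l ∈ L) : al l l = 1 := G.al_I_one hl (G.self hl)

theorem al_zero {l : M} (hl : l ∈ L) : al l 0 = 1 := G.al_I_one hl (zero_mem _)

theorem al_sq {l : M} (hl : l ∈ L) (m : M) : al l m * al l m = 1 := G.sq hl (G.al_mem hl m)

theorem al_of_fix {l m : M} (hl : l ∈ L) (h : ∀ a ∈ A l, a • m = m) : al l m = 1 :=
  (G.al_ker hl m).2 fun a ha => Or.inl (h a ha)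

theorem zfix {l : M} {a b : H} (hl : l ∈ L) (ha : a ∈ A l) (hb : b ∈ A l) (m : M) : a • (b • m + m) = b • m + m :=
  G.fix hl ha (G.comm hl hb m)

/-- `a ↦ [m, a]` is a homomorphism -/
theorem zmul {l : M} {a b : H} (hl : l ∈ L) (ha : a ∈ A l) (hb : b ∈ A l) (m : M) :
    (a * b) • m + m = (a • m + m) + (b • m + m) := by
  have h := G.zfix hl ha hb m
  rw [smul_add] at h
  have h1 : a • (b • m) = b • m + m + a • m := by
    rw [← h, G.two_right]
  rw [mul_smul, h1]
  simp only [add_assoc, add_comm, add_left_comm]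

theorem inter {l m : M} {a : H} (hl : l ∈ L) (hm : m ∈ L) (ha : a ∈ A l) (ha' : a ∈ A m) (h1 : a ≠ 1) :
    m ∈ I l := by
  obtain ⟨e, -, he⟩ := G.phi hm ha' h1
  have h := G.comm hl ha e
  rwa [he, add_comm, G.two_left] at h

/-- (N3) -/
theorem tri {l m : M} {a : H} (hl : l ∈ L) (hm : m ∈ L) (hlm : l ≠ m) (ha : a ∈ A l) (ha' : a ∈ A m) (h1 : a ≠ 1) :
    l + m ∈ L ∧ a ∈ A (l + m) := by
  obtain ⟨c, hcl, hcm, hc⟩ := G.Kt hl (G.inter hl hm ha ha' h1) (G.ne_zero hm) (fun e => hlm e.symm)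
  have e : c • m = l + m := by rw [hcm, add_comm]
  refine ⟨e ▸ G.smul c hm, ?_⟩
  have h2 := G.A_conj c hm ha'
  rw [hc a ha, mul_inv_cancel_right, e] at h2
  exact h2

/-- coplanar line vectors -/
theorem plane {l m : M} (hl : l ∈ L) (hm : m ∈ L) (hlm : l ≠ m) (h : m ∈ I l) : l + m ∈ L := by
  obtain ⟨c, hcl, hcm, hc⟩ := G.Kt hl h (G.ne_zero hm) (fun e => hlm e.symm)
  have e : c • m = l + m := by rw [hcm, add_comm]
  exact e ▸ G.smul c hm

theorem exists_ne [Finite H] {l : M} (hl : l ∈ L) : ∃ a ∈ A l, a ≠ 1 := by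
  by_contra hcon
  push Not at hcon
  have : A l = ⊥ := (Subgroup.eq_bot_iff_forall _).2 hcon
  have h4 := G.four hl
  rw [this, Subgroup.card_bot] at h4
  omega

/-- `A l ≤ A m` only for `l = m` -/
theorem inj [Finite H] {l m : M} (hl : l ∈ L) (hm : m ∈ L) (h : A l ≤ A m) : l = m := by
  by_contra hlm
  obtain ⟨a, ha, ha1⟩ := G.exists_ne hl
  have hmI := G.inter hl hm ha (h ha) ha1
  obtain ⟨c, hcl, hcm, hc⟩ := G.Kt hl hmI (G.ne_zero hm) (fun e => hlm e.symm)
  have hcard : Nat.card (A m) ≤ Nat.card (A l) := by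
    obtain ⟨g, rfl⟩ := G.trans hm hl
    exact Nat.card_le_card_of_injective (fun a : A m => (⟨g * a * g⁻¹, G.A_conj g hm a.2⟩ : A (g • m)))
      fun a b hab => Subtype.ext (by simpa using congrArg Subtype.val hab)
  have heq : A l = A m := Subgroup.eq_of_le_of_card_ge h hcard
  have h2 : c • m = m := by
    refine G.nrm hm fun x hx => ?_
    rw [← heq] at hx
    rw [hc x hx, mul_inv_cancel_right, ← heq]
    exact hx
  rw [hcm] at h2
  exact G.add_ne hl m h2

/-- an S-pair (one half suffices) -/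
theorem disj {l m : M} {a : H} (hl : l ∈ L) (hm : m ∈ L) (h : al l m ≠ 1) (ha : a ∈ A l) (ha' : a ∈ A m) :
    a = 1 := by
  by_contra h1
  exact h (G.al_I_one hl (G.inter hl hm ha ha' h1))

/-- separation of points by the functionals of `E l` -/
theorem sep {l : M} (hl : l ∈ L) (s : Finset H) (hs : ∀ b ∈ s, b ∈ A l) :
    ∀ x ∈ A l, x ∉ Subgroup.closure (s : Set H) → ∃ e, al l e = 1 ∧ (∀ b ∈ s, b • e = e) ∧ x • e = e + l := by
  classical
  induction s using Finset.induction_on with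
  | empty =>
    intro x hx hxs
    have hx1 : x ≠ 1 := fun e => hxs (e ▸ one_mem _)
    obtain ⟨e, he1, he⟩ := G.phi hl hx hx1
    exact ⟨e, he1, by simp, he⟩
  | insert y s hy ih =>
    intro x hx hxs
    have hs' : ∀ b ∈ s, b ∈ A l := fun b hb => hs b (Finset.mem_insert_of_mem hb)
    have hyA : y ∈ A l := hs y (Finset.mem_insert_self _ _)
    have hle : Subgroup.closure (s : Set H) ≤ Subgroup.closure ((insert y s : Finset H) : Set H) :=
      Subgroup.closure_mono (by simp)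
    have hyc : y ∈ Subgroup.closure ((insert y s : Finset H) : Set H) :=
      Subgroup.subset_closure (by simp)
    have hx1 : x ∉ Subgroup.closure (s : Set H) := fun h => hxs (hle h)
    have hx2 : x * y ∉ Subgroup.closure (s : Set H) := by
      intro h
      apply hxs
      have := mul_mem (hle h) (inv_mem hyc)
      rwa [mul_inv_cancel_right] at this
    obtain ⟨e₁, h11, h12, h13⟩ := ih hs' x hx hx1
    rcases (G.al_ker hl e₁).1 h11 y hyA with h14 | h14
    · refine ⟨e₁, h11, fun b hb => ?_, h13⟩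
      rcases Finset.mem_insert.1 hb with rfl | hb
      · exact h14
      · exact h12 b hb
    obtain ⟨e₂, h21, h22, h23⟩ := ih hs' (x * y) (mul_mem hx hyA) hx2
    rcases (G.al_ker hl e₂).1 h21 y hyA with h24 | h24
    · refine ⟨e₂, h21, fun b hb => ?_, ?_⟩
      · rcases Finset.mem_insert.1 hb with rfl | hb
        · exact h24
        · exact h22 b hb
      · rwa [mul_smul, h24] at h23
    · have h25 : x • e₂ = e₂ := by
        rw [mul_smul, h24, smul_add, G.A_fix hl hx] at h23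
        exact add_right_cancel h23
      refine ⟨e₁ + e₂, by rw [G.al_add hl, h11, h21, one_mul], fun b hb => ?_, ?_⟩
      · rcases Finset.mem_insert.1 hb with rfl | hb
        · rw [smul_add, h14, h24]
          have := G.two l
          calc e₁ + l + (e₂ + l) = e₁ + e₂ + (l + l) := by
                simp only [add_assoc, add_comm, add_left_comm]
            _ = e₁ + e₂ := by rw [this, add_zero]
        · rw [smul_add, h12 b hb, h22 b hb]
      · rw [smul_add, h13, h25]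
        simp only [add_assoc, add_comm, add_left_comm]

/-- a functional which vanishes at `a`, `b`, not at `x ∉ {1, a, b, a b}` -/
theorem sep2 {l : M} {a b x : H} (hl : l ∈ L) (ha : a ∈ A l) (hb : b ∈ A l) (hx : x ∈ A l) (h1 : x ≠ 1)
    (h2 : x ≠ a) (h3 : x ≠ b) (h4 : x ≠ a * b) :
    ∃ e, al l e = 1 ∧ a • e = e ∧ b • e = e ∧ x • e = e + l := by
  classical
  obtain ⟨e, h5, h6, h7⟩ := G.sep hl {a, b} (by
    intro c hc
    rcases Finset.mem_insert.1 hc with rfl | hc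
    · exact ha
    · rw [Finset.mem_singleton.1 hc]; exact hb) x hx (by
    intro hc
    have key : ∀ y ∈ Subgroup.closure (({a, b} : Finset H) : Set H), y = 1 ∨ y = a ∨ y = b ∨ y = a * b := by
      intro y hy
      have haa := G.sq hl ha
      have hbb := G.sq hl hb
      have hab := G.A_comm hl ha hb
      have m1 : a * (a * b) = b := by rw [← mul_assoc, haa, one_mul]
      have m2 : b * (a * b) = a := by rw [hab, ← mul_assoc, hbb, one_mul]
      have m3 : a * b * a = b := by rw [mul_assoc, ← hab, m1]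
      have m4 : a * b * b = a := by rw [mul_assoc, hbb, mul_one]
      have m5 : a * b * (a * b) = 1 := by rw [← mul_assoc, m3, hbb]
      induction hy using Subgroup.closure_induction with
      | mem y hy =>
        rcases Finset.mem_insert.1 hy with rfl | hy
        · simp
        · rw [Finset.mem_singleton.1 hy]; simp
      | one => simp
      | mul y z _ _ hy hz =>
        rcases hy with rfl | rfl | rfl | rfl <;> rcases hz with rfl | rfl | rfl | rfl <;>
          simp [haa, hbb, ← hab, m1, m2, m3, m4, m5]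
      | inv y _ hy =>
        rcases hy with rfl | rfl | rfl | rfl
        · simp
        · rw [G.inv hl ha]; simp
        · rw [G.inv hl hb]; simp
        · rw [G.inv hl (mul_mem ha hb)]; simp
    rcases key x hc with h | h | h | h
    · exact h1 h
    · exact h2 h
    · exact h3 h
    · exact h4 h)
  exact ⟨e, h5, h6 a (by simp), h6 b (by simp), h7⟩

/-- a functional which vanishes at `a`, not at `x ∉ {1, a}` -/
theorem sep1 {l : M} {a x : H} (hl : l ∈ L) (ha : a ∈ A l) (hx : x ∈ A l) (h1 : x ≠ 1) (h2 : x ≠ a) :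
    ∃ e, al l e = 1 ∧ a • e = e ∧ x • e = e + l := by
  obtain ⟨e, h3, h4, -, h5⟩ := G.sep2 hl ha (one_mem _) hx h1 h2 h1 (by rwa [mul_one])
  exact ⟨e, h3, h4, h5⟩

end Gen

end Cfsg.Agent.Omega.NO3S.TwoOne.PP
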