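import Mathlib

/-!
# NO-3S, `TwoOne` / `CompP`, `k ≥ 2` (helper409's text #19417), (5.3) and (5.4): `q = 0`

`H` acts on the elementary abelian 2-group `M`; `L` = the line vectors, `A l`, `I l`, `al l` (`l ∈ L`) the data of the
line `l` (`al l` has kernel `Ebar_l`), `[x, a] = a • x + x`, `q_l (al l x) = [x, al l x]` mod `l`.

* `exists_form` : a symmetric family of functionals on a spanning set comes from a form
* `Dat` : the fields (planes allowed; the only trace of `D_x = I` is `five`)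
* `Dat.q_zero` : `[x, al l x] ∈ {0, l}` for all `x` (`q = 0`, i.e. `β` is alternating).

The final contradiction does not use that the form is non degenerate: for `1 ≠ b ∈ ker q_l`, `al l v = b`,
`e ∈ Ebar_l`, `[e, b] = l`: `1 = F (l, m₁) = F ([e, b], m₁) = F (e, [m₁, b]) = F (e, [v, a₁]) = F ([e, a₁], v) = 0`.
-/

set_option autoImplicit false
set_option linter.unusedSectionVars false

namespace Cfsg.Agent.Omega.NO3S.TwoOne.PP.Form

section form

variable {M : Type*} [AddCommGroup M]

/-- a symmetric family of functionals on a spanning set comes from a symmetric form -/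
theorem exists_form {L : Set M} (gen : AddSubgroup.closure L = ⊤) (f : M → M →+ ZMod 2)
    (sy : ∀ l ∈ L, ∀ m ∈ L, f l m = f m l) :
    ∃ B : M → M →+ ZMod 2, (∀ l ∈ L, B l = f l) ∧ (∀ x y, B x y = B y x) ∧ ∀ x, ∀ m ∈ L, B x m = f m x := by
  have ext : ∀ g g' : M →+ ZMod 2, (∀ m ∈ L, g m = g' m) → g = g' := fun g g' h =>
    AddMonoidHom.eq_of_eqOn_dense gen h
  have key : ∀ x : M, ∃ g : M →+ ZMod 2, ∀ m ∈ L, g m = f m x := by
    intro x
    have hx : x ∈ AddSubgroup.closure L := by rw [gen]; trivial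
    induction hx using AddSubgroup.closure_induction with
    | mem l hl => exact ⟨f l, fun m hm => sy l hl m hm⟩
    | zero => exact ⟨0, fun m _ => by simp⟩
    | add x y _ _ hx hy =>
      obtain ⟨g, hg⟩ := hx
      obtain ⟨g', hg'⟩ := hy
      exact ⟨g + g', fun m hm => by rw [AddMonoidHom.add_apply, hg m hm, hg' m hm, map_add]⟩
    | neg x _ hx =>
      obtain ⟨g, hg⟩ := hx
      exact ⟨-g, fun m hm => by rw [AddMonoidHom.neg_apply, hg m hm, map_neg]⟩
  choose B hB using key
  have hL : ∀ l ∈ L, B l = f l := fun l hl => ext _ _ fun m hm => by rw [hB l m hm, sy l hl m hm]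
  refine ⟨B, hL, ?_, hB⟩
  intro x y
  have hy : y ∈ AddSubgroup.closure L := by rw [gen]; trivial
  have hadd : ∀ y z : M, B (y + z) = B y + B z := fun y z => ext _ _ fun m hm => by
    rw [AddMonoidHom.add_apply, hB _ m hm, hB _ m hm, hB _ m hm, map_add]
  have h0 : B 0 = 0 := ext _ _ fun m hm => by rw [hB _ m hm, map_zero, AddMonoidHom.zero_apply]
  have hneg : ∀ y : M, B (-y) = -B y := fun y => ext _ _ fun m hm => by
    rw [AddMonoidHom.neg_apply, hB _ m hm, hB _ m hm, map_neg]
  induction hy using AddSubgroup.closure_induction with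
  | mem l hl => rw [hB x l hl, hL l hl]
  | zero => rw [map_zero, h0, AddMonoidHom.zero_apply]
  | add y z _ _ hy hz => rw [map_add, hy, hz, hadd, AddMonoidHom.add_apply]
  | neg y _ hy => rw [map_neg, hy, hneg, AddMonoidHom.neg_apply]

end form

/-- the fields (planes allowed) -/
structure Dat {M H : Type*} [AddCommGroup M] [Group H] [DistribMulAction H M] (L : Set M) (A : M → Subgroup H)
    (I : M → AddSubgroup M) (al : M → M → H) : Prop where
  two : ∀ m : M, m + m = 0
  zero : (0 : M) ∉ L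
  gen : AddSubgroup.closure L = ⊤
  smul : ∀ (h : H) {l : M}, l ∈ L → h • l ∈ L
  trans : ∀ {l m : M}, l ∈ L → m ∈ L → ∃ h : H, h • l = m
  A_conj : ∀ (h : H) {l : M} {a : H}, l ∈ L → a ∈ A l → h * a * h⁻¹ ∈ A (h • l)
  I_conj : ∀ (h : H) {l u : M}, l ∈ L → u ∈ I l → h • u ∈ I (h • l)
  sq : ∀ {l : M} {a : H}, l ∈ L → a ∈ A l → a * a = 1
  four : ∀ {l : M}, l ∈ L → 4 ≤ Nat.card (A l)
  self : ∀ {l : M}, l ∈ L → l ∈ I l
  comm : ∀ {l : M} {a : H}, l ∈ L → a ∈ A l → ∀ m : M, a • m + m ∈ I l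
  fix : ∀ {l : M} {a : H} {u : M}, l ∈ L → a ∈ A l → u ∈ I l → a • u = u
  al_mem : ∀ {l : M}, l ∈ L → ∀ m, al l m ∈ A l
  al_add : ∀ {l : M}, l ∈ L → ∀ m m', al l (m + m') = al l m * al l m'
  al_surj : ∀ {l : M} {a : H}, l ∈ L → a ∈ A l → ∃ m, al l m = a
  al_conj : ∀ {l : M}, l ∈ L → ∀ (h : H) (m : M), al (h • l) (h • m) = h * al l m * h⁻¹
  al_ker : ∀ {l : M}, l ∈ L → ∀ m, al l m = 1 ↔ ∀ a ∈ A l, a • m = m ∨ a • m = m + l
  sy : ∀ {l : M}, l ∈ L → ∀ m m', al l m' • m + m + (al l m • m' + m') = 0 ∨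
    al l m' • m + m + (al l m • m' + m') = l
  phi : ∀ {l : M} {a : H}, l ∈ L → a ∈ A l → a ≠ 1 → ∃ e, al l e = 1 ∧ a • e = e + l
  /-- (S3) -/
  s3 : ∀ {l m : M}, l ∈ L → m ∈ L → al l m ≠ 1 → al m l ≠ 1 → (∃ a ∈ A l, al m (a • m + m) ≠ 1) →
    ∀ e, al l e = 1 → ∃ j ∈ I m, al l j = 1 ∧ ∀ b ∈ A l, b • j + j = b • e + e
  /-- (0.6) ALPHA -/
  alpha : ∀ {l m u : M}, l ∈ L → m ∈ L → al l m ≠ 1 → al m l ≠ 1 → u ∈ I l → u ∈ I m → u ≠ 0 → al l m • m = m
  /-- (0.7) KAPPA -/
  kappa : ∀ {l m x : M}, l ∈ L → m ∈ L → al l m ≠ 1 → al m l ≠ 1 → al l x • x + x ≠ 0 → al l x • x + x ≠ l →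
    al m (al l x • m + m + l) ≠ 1 → ∃ u ∈ I l, u ∈ I m ∧ u ≠ 0
  /-- (5.1) -/
  five : ∀ {l m : M}, l ∈ L → m ∈ L → al l m ≠ 1 → al m l ≠ 1

namespace Dat

variable {M H : Type*} [AddCommGroup M] [Group H] [DistribMulAction H M] {L : Set M} {A : M → Subgroup H}
    {I : M → AddSubgroup M} {al : M → M → H}

/-- `q_l (al l x) ≠ 0` -/
def P (al : M → M → H) (l x : M) : Prop := al l x • x + x ≠ 0 ∧ al l x • x + x ≠ l

section

variable (G : Dat L A I al)
include G

theorem two_left (x y : M) : x + (x + y) = y := by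
  rw [← add_assoc, G.two, zero_add]

theorem eq_of {x y : M} (h : x + y = 0) : x = y := by
  have := congrArg (fun z => z + y) h
  simpa [add_assoc, G.two] using this

theorem inv {l : M} {a : H} (hl : l ∈ L) (ha : a ∈ A l) : a⁻¹ = a :=
  inv_eq_of_mul_eq_one_left (G.sq hl ha)

theorem A_comm {l : M} {a b : H} (hl : l ∈ L) (ha : a ∈ A l) (hb : b ∈ A l) : a * b = b * a := by
  have h := G.sq hl (mul_mem ha hb)
  calc a * b = (a * b)⁻¹ := (inv_eq_of_mul_eq_one_left h).symm
    _ = b * a := by rw [mul_inv_rev, G.inv hl ha, G.inv hl hb]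

theorem al_I_one {l u : M} (hl : l ∈ L) (hu : u ∈ I l) : al l u = 1 :=
  (G.al_ker hl u).2 fun _ ha => Or.inl (G.fix hl ha hu)

theorem al_self {l : M} (hl : l ∈ L) : al l l = 1 := G.al_I_one hl (G.self hl)

theorem al_zero {l : M} (hl : l ∈ L) : al l 0 = 1 := by
  have h := G.al_add hl 0 0
  rw [add_zero] at h
  exact left_eq_mul.mp h

/-- `[x, a b] = [x, a] + [x, b]` -/
theorem comm_mul {l : M} {a b : H} (hl : l ∈ L) (ha : a ∈ A l) (hb : b ∈ A l) (x : M) :
    (a * b) • x + x = (a • x + x) + (b • x + x) := by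
  have h := G.fix hl ha (G.comm hl hb x)
  rw [smul_add] at h
  rw [mul_smul]
  have e : a • b • x = b • x + x + a • x := by
    calc a • b • x = a • b • x + a • x + a • x := by rw [add_assoc, G.two, add_zero]
      _ = _ := by rw [h]
  rw [e]
  abel

/-- `q_l` is additive -/
theorem q_add {l : M} (hl : l ∈ L) (x y : M) :
    al l (x + y) • (x + y) + (x + y) = (al l x • x + x) + (al l y • y + y) ∨
    al l (x + y) • (x + y) + (x + y) = (al l x • x + x) + (al l y • y + y) + l := by
  have ha := G.al_mem hl x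
  have hb := G.al_mem hl y
  have e : al l (x + y) • (x + y) + (x + y) = (al l x • x + x) + (al l y • y + y) +
      (al l y • x + x + (al l x • y + y)) := by
    have e1 := G.comm_mul hl ha hb x
    have e2 := G.comm_mul hl ha hb y
    rw [G.al_add hl, smul_add]
    calc (al l x * al l y) • x + (al l x * al l y) • y + (x + y) =
        ((al l x * al l y) • x + x) + ((al l x * al l y) • y + y) := by abel
      _ = _ := by rw [e1, e2]; abel
  rcases G.sy hl x y with h | h
  · left; rw [e, h, add_zero]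
  · right; rw [e, h]

theorem P_conj (h : H) {l x : M} (hl : l ∈ L) : P al (h • l) (h • x) ↔ P al l x := by
  unfold P
  rw [G.al_conj hl]
  have e : (h * al l x * h⁻¹) • h • x + h • x = h • (al l x • x + x) := by
    rw [mul_smul, mul_smul, inv_smul_smul, smul_add]
  rw [e]
  constructor
  · rintro ⟨h1, h2⟩
    exact ⟨fun e => h1 (by rw [e, smul_zero]), fun e => h2 (by rw [e])⟩
  · rintro ⟨h1, h2⟩
    refine ⟨fun e => h1 ?_, fun e => h2 (smul_left_cancel h e)⟩
    exact (smul_eq_zero_iff_eq h).mp e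

/-- not `P` -/
theorem not_P {l x : M} (h : ¬ P al l x) : al l x • x + x = 0 ∨ al l x • x + x = l := by
  unfold P at h
  by_contra hcon
  push Not at hcon
  exact h hcon

theorem not_P_of {l x : M} (h : al l x • x + x = 0 ∨ al l x • x + x = l) : ¬ P al l x := by
  rintro ⟨h1, h2⟩
  rcases h with h | h
  · exact h1 h
  · exact h2 h

/-- `q_l` is determined by `al l x` -/
theorem P_of_al {l x y : M} (hl : l ∈ L) (h : al l x = al l y) (hx : P al l x) : P al l y := by
  by_contra hy
  have h1 : al l (x + y) = 1 := by rw [G.al_add hl, h]; exact G.sq hl (G.al_mem hl y)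
  have h2 : al l (x + y) • (x + y) + (x + y) = 0 := by rw [h1, one_smul, G.two]
  rcases G.q_add hl x y with e | e
  · rw [h2] at e
    have e' := G.eq_of e.symm
    rcases G.not_P hy with h3 | h3
    · exact hx.1 (by rw [e', h3])
    · exact hx.2 (by rw [e', h3])
  · rw [h2] at e
    rcases G.not_P hy with h3 | h3
    · rw [h3, add_zero] at e
      exact hx.2 (G.eq_of e.symm)
    · rw [h3, add_assoc, G.two, add_zero] at e
      exact hx.1 e.symm

theorem P_add_of_not {l x y : M} (hl : l ∈ L) (hx : P al l x) (hy : ¬ P al l y) : P al l (x + y) := by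
  by_contra hxy
  have h1 := G.q_add hl x y
  rcases G.not_P hy with h3 | h3 <;> rcases G.not_P hxy with h4 | h4 <;> rw [h3, h4] at h1
  · rcases h1 with h1 | h1
    · exact hx.1 (by rw [add_zero] at h1; exact h1.symm)
    · rw [add_zero] at h1
      exact hx.2 (G.eq_of h1.symm)
  · rcases h1 with h1 | h1
    · exact hx.2 (by rw [add_zero] at h1; exact h1.symm)
    · rw [add_zero] at h1
      exact hx.1 (by simpa using h1)
  · rcases h1 with h1 | h1
    · exact hx.2 (G.eq_of h1.symm)
    · rw [add_assoc, G.two, add_zero] at h1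
      exact hx.1 h1.symm
  · rcases h1 with h1 | h1
    · exact hx.1 (by simpa using h1)
    · rw [add_assoc, G.two, add_zero] at h1
      exact hx.2 h1.symm

theorem not_P_add {l x y : M} (hl : l ∈ L) (hx : ¬ P al l x) (hy : ¬ P al l y) : ¬ P al l (x + y) := by
  apply G.not_P_of
  have h1 := G.q_add hl x y
  rcases G.not_P hy with h3 | h3 <;> rcases G.not_P hx with h4 | h4 <;> rw [h3, h4] at h1
  · rw [add_zero, zero_add] at h1; exact h1
  · rw [add_zero] at h1
    rcases h1 with h1 | h1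
    · exact Or.inr h1
    · exact Or.inl (by rw [h1, G.two])
  · rw [zero_add] at h1
    rcases h1 with h1 | h1
    · exact Or.inr h1
    · exact Or.inl (by rw [h1, G.two])
  · rw [G.two, zero_add] at h1; exact h1

/-- there is an `m ∈ L` with `q_l (al l m) ≠ 0` -/
theorem exists_P {l x : M} (hl : l ∈ L) (hx : P al l x) : ∃ m ∈ L, P al l m := by
  by_contra hcon
  push Not at hcon
  have h0 : x ∈ AddSubgroup.closure L := by rw [G.gen]; trivial
  have key : ¬ P al l x := by
    clear hx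
    induction h0 using AddSubgroup.closure_induction with
    | mem m hm => exact hcon m hm
    | zero => exact G.not_P_of (Or.inl (by rw [smul_zero, add_zero]))
    | add y z _ _ hy hz => exact G.not_P_add hl hy hz
    | neg y _ hy =>
      have e : -y = y := by
        rw [neg_eq_iff_add_eq_zero]; exact G.two y
      rwa [e]
  exact key hx

theorem al_ne_of_P {l x : M} (hx : P al l x) : al l x ≠ 1 := by
  intro e
  apply hx.1
  rw [e, one_smul, G.two]

/-- `q_l ≠ 0`, partial ⟹ `al l m` fixes `m` -/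
theorem fix_of_part {l m x : M} (hl : l ∈ L) (hm : m ∈ L) (h1 : al l m ≠ 1) (h2 : al m l ≠ 1) (hx : P al l x)
    (hp : ∀ a ∈ A l, al m (a • m + m) = 1) : al l m • m = m := by
  obtain ⟨u, hu1, hu2, hu0⟩ := G.kappa hl hm h1 h2 hx.1 hx.2 (by
    rw [G.al_add hm, hp _ (G.al_mem hl x), one_mul]; exact h2)
  exact G.alpha hl hm h1 h2 hu1 hu2 hu0

/-- `q_l (al l m) ≠ 0` ⟹ `(l, m)` is an S-pair, not partial -/
theorem opp_of_P {l m : M} (hl : l ∈ L) (hm : m ∈ L) (h : P al l m) :
    al l m ≠ 1 ∧ al m l ≠ 1 ∧ ∃ a ∈ A l, al m (a • m + m) ≠ 1 := by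
  have h1 := G.al_ne_of_P h
  have h2 := G.five hl hm h1
  refine ⟨h1, h2, ?_⟩
  by_contra hcon
  push Not at hcon
  have h3 := G.fix_of_part hl hm h1 h2 h hcon
  apply h.1
  rw [h3, G.two]

/-- opposite ⟹ `C_{A_l}(m) = 1` -/
theorem eq_one_of_opp {l m : M} {c : H} (hl : l ∈ L) (hm : m ∈ L) (h1 : al l m ≠ 1) (h2 : al m l ≠ 1)
    (ho : ∃ a ∈ A l, al m (a • m + m) ≠ 1) (hc : c ∈ A l) (hcm : c • m = m) : c = 1 := by
  by_contra hc1
  obtain ⟨e, he, hel⟩ := G.phi hl hc hc1
  obtain ⟨j, hj, -, hj2⟩ := G.s3 hl hm h1 h2 ho e he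
  have h3 : c • j + j = l := by
    rw [hj2 c hc, hel, add_comm e l, add_assoc, G.two, add_zero]
  have h4 : c • j ∈ I m := by
    have := G.I_conj c hm hj
    rwa [hcm] at this
  have h5 : l ∈ I m := by rw [← h3]; exact add_mem h4 hj
  exact h2 (G.al_I_one hm h5)

/-- the description of `ker q_l` by an opposite `m` -/
theorem opp_val {l m x : M} (hl : l ∈ L) (hm : m ∈ L) (h1 : al l m ≠ 1) (h2 : al m l ≠ 1)
    (ho : ∃ a ∈ A l, al m (a • m + m) ≠ 1) (hx : P al l x) : al m (al l x • m + m) = al m l := by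
  by_contra hne
  obtain ⟨u, hu1, hu2, hu0⟩ := G.kappa hl hm h1 h2 hx.1 hx.2 (by
    intro e
    apply hne
    rw [G.al_add hm] at e
    rw [← G.inv hm (G.al_mem hm l)]
    exact eq_inv_of_mul_eq_one_left e)
  have h3 := G.alpha hl hm h1 h2 hu1 hu2 hu0
  exact h1 (G.eq_one_of_opp hl hm h1 h2 ho (G.al_mem hl m) h3)

/-- **`ker q_l` has index 2** -/
theorem not_P_add' {l m x y : M} (hl : l ∈ L) (hm : m ∈ L) (h1 : al l m ≠ 1) (h2 : al m l ≠ 1)
    (ho : ∃ a ∈ A l, al m (a • m + m) ≠ 1) (hx : P al l x) (hy : P al l y) : ¬ P al l (x + y) := by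
  intro hxy
  have e1 := G.opp_val hl hm h1 h2 ho hx
  have e2 := G.opp_val hl hm h1 h2 ho hy
  have e3 := G.opp_val hl hm h1 h2 ho hxy
  rw [G.al_add hl, G.comm_mul hl (G.al_mem hl x) (G.al_mem hl y), G.al_add hm, e1, e2] at e3
  exact h2 (mul_eq_left.mp e3)

/-- opposite ⟹ `q_l (al l m) ≠ 0` -/
theorem P_of_opp {l m x : M} (hl : l ∈ L) (hm : m ∈ L) (h1 : al l m ≠ 1) (h2 : al m l ≠ 1)
    (ho : ∃ a ∈ A l, al m (a • m + m) ≠ 1) (hx : P al l x) : P al l m := by
  by_contra hP
  -- `[m, n] ∈ Ebar_m`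
  have h3 := G.P_add_of_not hl hx hP
  have e1 := G.opp_val hl hm h1 h2 ho hx
  have e2 := G.opp_val hl hm h1 h2 ho h3
  rw [G.al_add hl, G.comm_mul hl (G.al_mem hl x) (G.al_mem hl m), G.al_add hm, e1] at e2
  have e3 : al m (al l m • m + m) = 1 := mul_eq_left.mp e2
  rcases G.not_P hP with e | e
  · have e4 := G.eq_of e
    exact h1 (G.eq_one_of_opp hl hm h1 h2 ho (G.al_mem hl m) e4)
  · rw [e] at e3
    exact h2 e3

/-- if `al m l` fixes `l` then `(l, m)` is not opposite -/
theorem not_fix_of_opp {l m : M} (hl : l ∈ L) (hm : m ∈ L) (h1 : al l m ≠ 1) (h2 : al m l ≠ 1)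
    (ho : ∃ a ∈ A l, al m (a • m + m) ≠ 1) : al m l • l ≠ l := by
  intro hf
  set n := al m l with hn
  have hnA : n ∈ A m := G.al_mem hm l
  have hni : n⁻¹ = n := G.inv hm hnA
  -- `n` centralises `A l`
  have hcen : ∀ b ∈ A l, n * b * n⁻¹ = b := by
    intro b hb
    have hb' : n * b * n⁻¹ ∈ A l := by
      have := G.A_conj n hl hb
      rwa [hf] at this
    by_contra hne
    have hne' : n * b * n⁻¹ * b ≠ 1 := by
      intro e
      apply hne
      rw [eq_inv_of_mul_eq_one_left e, G.inv hl hb]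
    obtain ⟨e, he, hel⟩ := G.phi hl (mul_mem hb' hb) hne'
    obtain ⟨j, hj, -, hj2⟩ := G.s3 hl hm h1 h2 ho e he
    have h3 : (n * b * n⁻¹ * b) • e + e = l := by
      rw [hel, add_comm e l, add_assoc, G.two, add_zero]
    rw [G.comm_mul hl hb' hb, ← hj2 _ hb', ← hj2 _ hb] at h3
    have h4 : n • j = j := G.fix hm hnA hj
    have h4' : n⁻¹ • j = j := by rw [hni]; exact h4
    have h5 : (n * b * n⁻¹) • j + j = n • (b • j + j) := by
      rw [mul_smul, mul_smul, h4', smul_add, h4]
    have h6 : n • (b • j + j) = b • j + j := by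
      have h7 : b • e = e ∨ b • e = e + l := (G.al_ker hl e).1 he b hb
      rw [hj2 b hb]
      rcases h7 with h7 | h7
      · rw [h7, G.two, smul_zero]
      · have : b • e + e = l := by rw [h7, add_comm e l, add_assoc, G.two, add_zero]
        rw [this, hf]
    rw [h5, h6, G.two] at h3
    exact G.zero (h3 ▸ hl)
  -- `[M, n] ≤ Ebar_l`
  obtain ⟨e, -, hem⟩ := G.phi hm hnA h2
  have h3 : al l (n • e) = al l e := by
    have h4 := G.al_conj hl n e
    rw [hf, hcen _ (G.al_mem hl e)] at h4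
    exact h4
  rw [hem, G.al_add hl] at h3
  exact h1 (mul_eq_left.mp h3)

/-- **the relation `q_l (al l m) ≠ 0` is symmetric on `L`** -/
theorem P_symm {l m : M} (hl : l ∈ L) (hm : m ∈ L) (h : P al l m) : P al m l := by
  obtain ⟨h1, h2, ho⟩ := G.opp_of_P hl hm h
  have hf := G.not_fix_of_opp hl hm h1 h2 ho
  -- `q_m ≠ 0`
  obtain ⟨g, hg⟩ := G.trans hl hm
  have hq : P al m (g • m) := by
    have := (G.P_conj g hl (x := m)).2 h
    rwa [hg] at this
  have ho' : ∃ a ∈ A m, al l (a • l + l) ≠ 1 := by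
    by_contra hcon
    push Not at hcon
    exact hf (G.fix_of_part hm hl h2 h1 hq hcon)
  exact G.P_of_opp hm hl h2 h1 ho' hq

/-- the functional `F_l` -/
theorem exists_fl (hq : ∀ l ∈ L, ∃ x, P al l x) {l : M} (hl : l ∈ L) :
    ∃ f : M →+ ZMod 2, ∀ x, f x = 1 ↔ P al l x := by
  classical
  obtain ⟨x0, hx0⟩ := hq l hl
  obtain ⟨m0, hm0, h0⟩ := G.exists_P hl hx0
  obtain ⟨h1, h2, ho⟩ := G.opp_of_P hl hm0 h0
  refine ⟨AddMonoidHom.mk' (fun x => if P al l x then 1 else 0) ?_, ?_⟩
  · intro x y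
    by_cases hx : P al l x <;> by_cases hy : P al l y
    · have := G.not_P_add' hl hm0 h1 h2 ho hx hy
      simp only [hx, hy, this, if_true, if_false]; decide
    · have := G.P_add_of_not hl hx hy
      simp only [hx, hy, this, if_true, if_false]; decide
    · have := G.P_add_of_not hl hy hx
      rw [add_comm] at this
      simp only [hx, hy, this, if_true, if_false]; decide
    · have := G.not_P_add hl hx hy
      simp only [hx, hy, this, if_false]; decide
  · intro x
    by_cases hx : P al l x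
    · simp [hx]
    · simp [hx]

/-- **`q = 0`** -/
theorem not_P_all {l : M} (hl : l ∈ L) (x : M) : ¬ P al l x := by
  classical
  intro hx0
  have hq : ∀ m ∈ L, ∃ x, P al m x := by
    intro m hm
    obtain ⟨g, hg⟩ := G.trans hl hm
    refine ⟨g • x, ?_⟩
    have := (G.P_conj g hl (x := x)).2 hx0
    rwa [hg] at this
  choose! f hf using fun l (hl : l ∈ L) => G.exists_fl hq hl
  have z2 : ∀ a b : ZMod 2, (a = 1 ↔ b = 1) → a = b := by decide
  obtain ⟨B, hB, hsy, hBm⟩ := exists_form G.gen f fun l hl m hm =>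
    z2 _ _ (by rw [hf l hl, hf m hm]; exact ⟨G.P_symm hl hm, G.P_symm hm hl⟩)
  -- invariance
  have hinv : ∀ (h : H) (x y : M), B (h • x) (h • y) = B x y := by
    intro h x y
    have hy : y ∈ AddSubgroup.closure L := by rw [G.gen]; trivial
    induction hy using AddSubgroup.closure_induction with
    | mem m hm =>
      rw [hBm _ _ (G.smul h hm), hBm _ _ hm]
      apply z2
      rw [hf _ (G.smul h hm), hf m hm, G.P_conj h hm]
    | zero => rw [smul_zero, map_zero, map_zero]
    | add y z _ _ hy hz => rw [smul_add, map_add, map_add, hy, hz]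
    | neg y _ hy => rw [smul_neg, map_neg, map_neg, hy]
  -- `a ∈ A l` moves to the other side
  have hadj : ∀ a ∈ A l, ∀ x y : M, B x (a • y) = B (a • x) y := by
    intro a ha x y
    have e : a • a • x = x := by rw [← mul_smul, G.sq hl ha, one_smul]
    calc B x (a • y) = B (a • a • x) (a • y) := by rw [e]
      _ = B (a • x) y := hinv a _ _
  have hadd : ∀ x x' y : M, B (x + x') y = B x y + B x' y := by
    intro x x' y
    rw [hsy, map_add, hsy y x, hsy y x']
  -- an element `b ≠ 1` of `ker q_l`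
  obtain ⟨b, hb, hb1, hbq⟩ : ∃ b ∈ A l, b ≠ 1 ∧ ∀ v, al l v = b → ¬ P al l v := by
    by_contra hcon
    push Not at hcon
    obtain ⟨m0, hm0, h0⟩ := G.exists_P hl hx0
    obtain ⟨h1, h2, ho⟩ := G.opp_of_P hl hm0 h0
    have key : ∀ a ∈ A l, a = 1 ∨ a = al l m0 := by
      intro a ha
      by_cases ha1 : a = 1
      · exact Or.inl ha1
      right
      obtain ⟨v, hv, hvP⟩ := hcon a ha ha1
      by_contra hne
      have h3 : al l v * al l m0 ≠ 1 := by
        intro e
        apply hne
        rw [← hv, eq_inv_of_mul_eq_one_left e, G.inv hl (G.al_mem hl m0)]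
      obtain ⟨w, hw, hwP⟩ := hcon _ (mul_mem (G.al_mem hl v) (G.al_mem hl m0)) h3
      rw [← G.al_add hl] at hw
      exact G.not_P_add' hl hm0 h1 h2 ho hvP h0 (G.P_of_al hl hw hwP)
    have h4 := G.four hl
    have hfin : (A l : Set H) ⊆ {1, al l m0} := by
      intro a ha
      rcases key a ha with e | e
      · exact Or.inl e
      · exact Or.inr e
    have h5 := Set.ncard_le_ncard hfin (Set.toFinite _)
    have h6 := Set.ncard_insert_le (1 : H) {al l m0}
    rw [Set.ncard_singleton] at h6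
    rw [← Nat.card_coe_set_eq] at h5
    have h7 : Nat.card (A l) = Nat.card ((A l : Set H) : Type _) := rfl
    omega
  obtain ⟨v, hv⟩ := G.al_surj hl hb
  have hvP := hbq v hv
  obtain ⟨e, he, hel⟩ := G.phi hl hb hb1
  have hel' : b • e + e = l := by rw [hel, add_comm e l, add_assoc, G.two, add_zero]
  have f0 : ∀ y, ¬ P al l y → B l y = 0 := by
    intro y hy
    have h1 : ¬ B l y = 1 := by rw [hB l hl, hf l hl]; exact hy
    revert h1
    generalize B l y = t
    revert t
    decide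
  have heP : ¬ P al l e := G.not_P_of (Or.inl (by rw [he, one_smul, G.two]))
  -- the computation
  have e1 : B l x = 1 := by rw [hB l hl, hf l hl]; exact hx0
  have e2 : B l x = B e (b • x + x) := by
    rw [← hel', hadd, map_add, hadj b hb]
  have e3 : B e (b • x + x) = B e (al l x • v + v) := by
    have h1 := G.sy hl x v
    rw [hv] at h1
    rcases h1 with h1 | h1
    · rw [G.eq_of h1]
    · have h2 : b • x + x = al l x • v + v + l := by
        have := G.two (al l x • v + v)
        calc b • x + x = b • x + x + ((al l x • v + v) + (al l x • v + v)) := by rw [this, add_zero]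
          _ = (al l x • v + v) + (b • x + x + (al l x • v + v)) := by abel
          _ = _ := by rw [h1]
      rw [h2, map_add, hsy e l, f0 e heP, add_zero]
  have e4 : B e (al l x • v + v) = B (al l x • e + e) v := by
    rw [map_add, hadd, hadj _ (G.al_mem hl x)]
  have e5 : B (al l x • e + e) v = 0 := by
    rcases (G.al_ker hl e).1 he _ (G.al_mem hl x) with h | h
    · rw [h, G.two]
      have := hadd 0 0 v
      rw [add_zero] at this
      exact left_eq_add.mp this
    · rw [h, add_comm e l, add_assoc, G.two, add_zero]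
      exact f0 v hvP
  rw [e2, e3, e4, e5] at e1
  exact absurd e1 (by decide)

/-- **(5.3), (5.4)** : `q = 0` -/
theorem q_zero {l : M} (hl : l ∈ L) (x : M) : al l x • x + x = 0 ∨ al l x • x + x = l :=
  G.not_P (G.not_P_all hl x)

end

end Dat

end Cfsg.Agent.Omega.NO3S.TwoOne.PP.Form
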