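import Cfsg.Agent.Omega.NO3S.TwoOne.PP.Base

/-!
# NO-3S, `TwoOne` / `CompP`, `k ≥ 2`, planes allowed (#19417, section 1): partial and opposite S-pairs

S-pair `(l, m)`: `al l m ≠ 1`, `al m l ≠ 1`; PARTIAL: `[m, A l] ≤ E m`; OPPOSITE: not partial.

* `Gen.cent_E` : `g` fixes `l`, centralises `A l` ⟹ `[M, g] ≤ E l`
* `Gen.s2` : `C_{A l}(m) ≤ ⟨al l m⟩`
* `Gen.part_fix` : partial ⟹ `al l m` fixes `m`
* `Gen.opp_fix` : opposite ⟹ `C_{A l}(m) = 1`; `Gen.opp_inf` : `I l ∩ I m = 0`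
* `Gen.opp_symm`, `Gen.part_symm`
-/

set_option autoImplicit false

namespace Cfsg.Agent.Omega.NO3S.TwoOne.PP

namespace Gen

variable {M H : Type*} [AddCommGroup M] [Group H] [DistribMulAction H M] {L : Set M} {A : M → Subgroup H}
    {I : M → AddSubgroup M} {al : M → M → H} (G : Gen L A I al)
include G

/-- (0.2) -/
theorem cent_E {l : M} {g : H} (hl : l ∈ L) (hg : g • l = l) (hc : ∀ a ∈ A l, g * a = a * g) (x : M) :
    al l (g • x + x) = 1 := by
  rw [G.al_add hl, G.al_conj hl hg, hc _ (G.al_mem hl x), mul_inv_cancel_right]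
  exact G.al_sq hl x

theorem s2 {l m : M} {a : H} (hl : l ∈ L) (hm : m ∈ L) (h1 : al l m ≠ 1) (h2 : al m l ≠ 1) (ha : a ∈ A l)
    (ham : a • m = m) : a = 1 ∨ a = al l m := by
  by_contra hcon
  push Not at hcon
  obtain ⟨e, he1, he2, he3⟩ := G.sep1 hl (G.al_mem hl m) ha hcon.1 hcon.2
  obtain ⟨j, hj, hj1, hjb⟩ := G.s1 hl hm h1 h2 e he1 he2
  have h3 := hjb a ha
  rw [he3, add_comm e l, G.two_right] at h3
  have h4 : l ∈ I m := h3 ▸ add_mem (G.I_conj' hm hj ham) hj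
  exact h2 (G.al_I_one hm h4)

theorem part_fix {l m : M} (hl : l ∈ L) (hm : m ∈ L) (h1 : al l m ≠ 1) (h2 : al m l ≠ 1)
    (hp : ∀ a ∈ A l, al m (a • m + m) = 1) : al l m • m = m := by
  by_cases hq : ∃ x, al l x • x ≠ x ∧ al l x • x ≠ x + l
  · obtain ⟨x, hx1, hx2⟩ := hq
    obtain ⟨u, hu1, hu2, hu3⟩ := G.kappa hl hm h1 h2 x hx1 hx2 (by
      rw [G.al_add hm, hp _ (G.al_mem hl x), one_mul]; exact h2)
    exact G.alpha hl hm h1 h2 u hu1 hu2 hu3
  · push Not at hq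
    by_contra h3
    have h4 := hq m h3
    have h5 := hp _ (G.al_mem hl m)
    rw [h4, add_comm m l, G.two_right] at h5
    exact h2 h5

theorem opp_fix {l m : M} {a : H} (hl : l ∈ L) (hm : m ∈ L) (h1 : al l m ≠ 1) (h2 : al m l ≠ 1)
    (hn : ∃ a ∈ A l, al m (a • m + m) ≠ 1) (ha : a ∈ A l) (ham : a • m = m) : a = 1 := by
  by_contra ha1
  obtain ⟨e, he1, he3⟩ := G.phi hl ha ha1
  obtain ⟨j, hj, hj1, hjb⟩ := G.s3 hl hm h1 h2 hn e he1
  have h3 := hjb a ha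
  rw [he3, add_comm e l, G.two_right] at h3
  have h4 : l ∈ I m := h3 ▸ add_mem (G.I_conj' hm hj ham) hj
  exact h2 (G.al_I_one hm h4)

theorem opp_inf {l m u : M} (hl : l ∈ L) (hm : m ∈ L) (h1 : al l m ≠ 1) (h2 : al m l ≠ 1)
    (hn : ∃ a ∈ A l, al m (a • m + m) ≠ 1) (hu : u ∈ I l) (hu' : u ∈ I m) : u = 0 := by
  by_contra hu0
  exact h1 (G.opp_fix hl hm h1 h2 hn (G.al_mem hl m) (G.alpha hl hm h1 h2 u hu hu' hu0))

/-- opposite is symmetric -/
theorem opp_symm {l m : M} (hl : l ∈ L) (hm : m ∈ L) (h1 : al l m ≠ 1) (h2 : al m l ≠ 1)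
    (hn : ∃ a ∈ A l, al m (a • m + m) ≠ 1) : ∃ a ∈ A m, al l (a • l + l) ≠ 1 := by
  by_contra hcon
  push Not at hcon
  have hfix : al m l • l = l := G.part_fix hm hl h2 h1 hcon
  obtain ⟨n, hne⟩ : ∃ n, n = al m l := ⟨_, rfl⟩
  have hn1 : n ≠ 1 := hne ▸ h2
  have hnA : n ∈ A m := hne ▸ G.al_mem hm l
  rw [← hne] at hfix
  -- `n` centralises `A l`
  have hc : ∀ b ∈ A l, n * b = b * n := by
    intro b hb
    have hb' : n * b * n⁻¹ ∈ A l := G.A_conj_fix hl hb hfix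
    obtain ⟨b', hb'e⟩ : ∃ b', b' = n * b * n⁻¹ := ⟨_, rfl⟩
    rw [← hb'e] at hb'
    have hbb : b' = b := by
      by_contra hbb
      have h3 : b' * b ≠ 1 := fun h => hbb (by
        rw [← G.inv hl hb]; exact (inv_eq_of_mul_eq_one_left h).symm)
      obtain ⟨e, he1, he⟩ := G.phi hl (mul_mem hb' hb) h3
      obtain ⟨j, hj, hj1, hjb⟩ := G.s3 hl hm h1 h2 hn e he1
      have hnj : n • j = j := G.fix hm hnA hj
      have hnj' : n⁻¹ • j = j := by rw [inv_smul_eq_iff]; exact hnj.symm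
      have h4 : b' • j = b • j := by
        rw [hb'e, mul_smul, mul_smul, hnj']
        rcases (G.al_ker hl j).1 hj1 b hb with h | h
        · rw [h, hnj]
        · rw [h, smul_add, hnj, hfix]
      have h5 : b' • e = b • e := by
        have h6 := hjb b' hb'
        rw [h4, hjb b hb] at h6
        exact (add_right_cancel h6).symm
      rw [mul_smul] at he
      rcases (G.al_ker hl e).1 he1 b hb with h | h
      · rw [h, h5, h] at he
        exact G.add_ne hl e he.symm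
      · rw [h, smul_add, h5, h, G.A_fix hl hb', G.two_right] at he
        exact G.add_ne hl e he.symm
    rw [hbb] at hb'e
    rw [eq_mul_inv_iff_mul_eq] at hb'e
    exact hb'e.symm
  obtain ⟨e, -, he⟩ := G.phi hm hnA hn1
  have h3 := G.cent_E hl hfix hc e
  rw [he, add_comm e m, G.two_right] at h3
  exact h1 h3

theorem part_symm {l m : M} (hl : l ∈ L) (hm : m ∈ L) (h1 : al l m ≠ 1) (h2 : al m l ≠ 1)
    (hp : ∀ a ∈ A l, al m (a • m + m) = 1) : ∀ a ∈ A m, al l (a • l + l) = 1 := by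
  by_contra hcon
  push Not at hcon
  obtain ⟨a, ha, h3⟩ := G.opp_symm hm hl h2 h1 hcon
  exact h3 (hp a ha)

end Gen

end Cfsg.Agent.Omega.NO3S.TwoOne.PP
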