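import Cfsg.Agent.Omega.NO3S.TwoOne.PP.Base

/-!
# NO-3S, `TwoOne` / `CompP`, `k ≥ 2`, planes allowed: SIGMA_k (helper225's #18607, pure form)

* `Gen.sigma` : `o ≠ 1` odd, inverted by `1 ≠ a ∈ A l` ⟹ `o³ = 1`, `o l ≠ l`, `[o l, a] = l`, `[o l, A l] = ⟨l⟩`
-/

set_option autoImplicit false

namespace Cfsg.Agent.Omega.NO3S.TwoOne.PP

section

variable {H : Type*} [Group H]

theorem eq_one_of_four {o : H} (ho : Odd (orderOf o)) (h : o * o * (o * o) = 1) : o = 1 := by
  have h0 : o ^ 4 = 1 := by
    have e : o ^ 4 = o * o * (o * o) := by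
      rw [show (4 : ℕ) = 2 + 2 from rfl, pow_add, pow_two]
    rw [e, h]
  have h1 : orderOf o ∣ 4 := orderOf_dvd_of_pow_eq_one h0
  have h2 : Nat.Coprime (orderOf o) 4 := by
    have : Nat.Coprime (orderOf o) (2 ^ 2) := Nat.Coprime.pow_right 2 (Nat.coprime_two_right.2 ho)
    exact this
  rw [← orderOf_eq_one_iff]
  exact Nat.Coprime.eq_one_of_dvd h2 h1

theorem exists_sq_pow {o : H} (ho : Odd (orderOf o)) : ∃ k : ℕ, o = (o * o) ^ k := by
  obtain ⟨t, ht⟩ := ho
  refine ⟨t + 1, ?_⟩
  have h1 : o ^ (2 * t + 1) = 1 := by rw [← ht]; exact pow_orderOf_eq_one o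
  rw [← pow_two, ← pow_mul]
  have : 2 * (t + 1) = (2 * t + 1) + 1 := by ring
  rw [this, pow_succ, h1, one_mul]

theorem smul_of_sq {M : Type*} [AddCommGroup M] [DistribMulAction H M] {o : H} (ho : Odd (orderOf o)) {x : M}
    (h : (o * o) • x = x) : o • x = x := by
  obtain ⟨k, hk⟩ := exists_sq_pow ho
  have : ∀ k : ℕ, (o * o) ^ k • x = x := by
    intro k
    induction k with
    | zero => rw [pow_zero, one_smul]
    | succ k ih => rw [pow_succ, mul_smul, h, ih]
  rw [hk]
  exact this k

end

namespace Gen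

variable {M H : Type*} [AddCommGroup M] [Group H] [DistribMulAction H M] {L : Set M} {A : M → Subgroup H}
    {I : M → AddSubgroup M} {al : M → M → H} (G : Gen L A I al)
include G

theorem inv_conj {l : M} {a o : H} (hl : l ∈ L) (ha : a ∈ A l) (h : a * o * a = o⁻¹) : a * o⁻¹ * a = o := by
  rw [← h]
  have := G.sq hl ha
  calc a * (a * o * a) * a = (a * a) * o * (a * a) := by group
    _ = o := by rw [this, one_mul, mul_one]

/-- `o` odd, inverted by `a ∈ A l`, does not fix `l` -/
theorem odd_move {l : M} {a o : H} (hl : l ∈ L) (ha : a ∈ A l) (ho : Odd (orderOf o)) (h : a * o * a = o⁻¹)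
    (hol : o • l = l) : o = 1 := by
  have h1 : o * a * o⁻¹ ∈ A l := G.A_conj_fix hl ha hol
  have h2 := G.sq hl (mul_mem ha h1)
  have h3 : a * (o * a * o⁻¹) = o⁻¹ * o⁻¹ := by rw [← h]; group
  rw [h3] at h2
  apply eq_one_of_four ho
  have h4 : o * o * (o * o) = (o⁻¹ * o⁻¹ * (o⁻¹ * o⁻¹))⁻¹ := by
    simp only [mul_inv_rev, inv_inv]
  rw [h4, h2, inv_one]

theorem conj_mul_self {l : M} {a o : H} (hl : l ∈ L) (ha : a ∈ A l) (h : a * o * a = o⁻¹) :
    o * a * o⁻¹ * a = o * o := by
  calc o * a * o⁻¹ * a = o * (a * o⁻¹ * a) := by group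
    _ = o * o := by rw [G.inv_conj hl ha h]

/-- `a` moves `o l` -/
theorem a_move {l : M} {a o : H} (hl : l ∈ L) (ha : a ∈ A l) (ho : Odd (orderOf o)) (h1 : o ≠ 1)
    (h : a * o * a = o⁻¹) : a • (o • l) ≠ o • l := by
  intro hf
  have hm := G.smul o hl
  have haa := G.sq hl ha
  have h2 : o * a * o⁻¹ ∈ A (o • l) := G.A_conj o hl ha
  have h3 : a * (o * a * o⁻¹) * a ∈ A (o • l) := G.A_conj' hm h2 haa hf
  have h4 := G.sq hm (mul_mem h2 h3)
  have h5 := G.conj_mul_self hl ha h
  have h6 : o * a * o⁻¹ * (a * (o * a * o⁻¹) * a) = o * o * (o * o) := by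
    calc o * a * o⁻¹ * (a * (o * a * o⁻¹) * a) = (o * a * o⁻¹ * a) * (o * a * o⁻¹ * a) := by group
      _ = _ := by rw [h5]
  rw [h6] at h4
  have h7 : o * o = 1 := by
    apply eq_one_of_four (o := o * o)
    · exact Odd.of_dvd_nat ho (by rw [← pow_two]; exact orderOf_pow_dvd 2)
    · exact h4
  apply h1
  apply eq_one_of_four ho
  rw [h7, one_mul]

/-- **SIGMA_k** (helper225) -/
theorem sigma [Finite H] {l : M} {a o : H} (hl : l ∈ L) (ha : a ∈ A l) (_ : a ≠ 1) (ho1 : o ≠ 1)
    (ho : Odd (orderOf o)) (h : a * o * a = o⁻¹) :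
    o * o * o = 1 ∧ o • l ≠ l ∧ a • (o • l) = o • l + l ∧ ∀ x ∈ A l, x • (o • l) = o • l ∨ x • (o • l) = o • l + l := by
  have hm := G.smul o hl
  have haa := G.sq hl ha
  have hinv := G.inv_conj hl ha h
  have hmove := G.a_move hl ha ho ho1 h
  have hol : o • l ≠ l := fun e => ho1 (G.odd_move hl ha ho h e)
  have hoo := G.conj_mul_self hl ha h
  have ha'A : o * a * o⁻¹ ∈ A (o • l) := G.A_conj o hl ha
  -- the involution `τ` which interchanges `l` and `o l`
  obtain ⟨t, ht⟩ : ∃ t, t = o * a := ⟨_, rfl⟩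
  have htl : t • l = o • l := by rw [ht, mul_smul, G.A_fix hl ha]
  have htt : t * t = 1 := by
    calc t * t = o * (a * o * a) := by rw [ht]; group
      _ = 1 := by rw [h, mul_inv_cancel]
  have htm : t • (o • l) = l := by rw [← htl, ← mul_smul, htt, one_smul]
  have htinv : t⁻¹ = t := inv_eq_of_mul_eq_one_left htt
  have hta : t * a * t⁻¹ = o * a * o⁻¹ := by
    rw [ht]
    calc o * a * a * (o * a)⁻¹ = o * (a * a) * (a⁻¹ * o⁻¹) := by group
      _ = o * a * o⁻¹ := by rw [haa, G.inv hl ha]; group
  obtain ⟨m, hme⟩ : ∃ m, m = o • l := ⟨_, rfl⟩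
  obtain ⟨a', ha'e⟩ : ∃ a', a' = o * a * o⁻¹ := ⟨_, rfl⟩
  rw [← hme, ← ha'e] at ha'A
  rw [← ha'e] at hoo hta
  rw [← hme] at hm hmove htl htm hol ⊢
  have ha't : a' * t = t * a := by rw [← hta, inv_mul_cancel_right]
  have hat : a * t = t * a' := by
    rw [← hta, htinv]
    calc a * t = (t * t) * a * t := by rw [htt, one_mul]
      _ = t * (t * a * t) := by group
  by_cases hE : al m l = 1
  · have hE' : al l m = 1 := by
      have h1 := G.al_smul t hl m
      rw [htl, htm, hE] at h1
      have h2 : al l m = t⁻¹ * (t * al l m * t⁻¹) * t := by group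
      rw [h2, ← h1]
      group
    have h1 := (G.al_ker hl m).1 hE'
    have h2 : a • m = m + l := (h1 a ha).resolve_left hmove
    have h3 : a' • l = l + m := by
      calc a' • l = a' • (t • m) := by rw [htm]
        _ = t • (a • m) := by rw [← mul_smul, ha't, mul_smul]
        _ = l + m := by rw [h2, smul_add, htm, htl]
    have h4 : (o * o) • l = l + m := by rw [← hoo, mul_smul, G.A_fix hl ha, h3]
    have h5 : (o * o) • m = l := by
      rw [← hoo, mul_smul, h2, smul_add, G.A_fix hm ha'A, h3, add_comm l m, G.two_left]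
    have h6 : (o * o) • ((o * o) • ((o * o) • l)) = l := by
      have e : l + m + l = m := by rw [add_comm l m, G.two_right]
      rw [h4, smul_add, h4, h5, e, h5]
    refine ⟨?_, hol, h2, h1⟩
    have hodd : Odd (orderOf (o * o * o)) := Odd.of_dvd_nat ho (by
      have : o * o * o = o ^ 3 := by rw [pow_succ, pow_two]
      rw [this]; exact orderOf_pow_dvd 3)
    have h7 : (o * o * o) • l = l := by
      apply smul_of_sq hodd
      rw [← mul_smul, ← mul_smul] at h6
      have e : o * o * o * (o * o * o) = o * o * (o * o) * (o * o) := by group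
      rw [e]
      exact h6
    refine G.odd_move hl ha hodd ?_ h7
    calc a * (o * o * o) * a = (a * o * a) * (a * a)⁻¹ * (a * o * a) * (a * a)⁻¹ * (a * o * a) := by group
      _ = (o * o * o)⁻¹ := by rw [haa, h]; group
  · exfalso
    have hE' : al l m ≠ 1 := by
      intro h1
      apply hE
      have h2 := G.al_smul t hl m
      rw [htl, htm, h1] at h2
      rw [h2]; group
    -- vectors of `I m` fixed by `a`
    have star : ∀ j ∈ I m, a • j = j → j ∈ I l := by
      intro j hj haj
      have h1 : (o * o) • j = j := by rw [← hoo, mul_smul, haj, G.fix hm ha'A hj]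
      have h2 := smul_of_sq ho h1
      have h3 : o • j ∈ I (o • l) := by rw [h2, ← hme]; exact hj
      exact (G.I_conj_iff hl).1 h3
    -- partial
    have hp : ∀ x ∈ A l, al m (x • m + m) = 1 := by
      by_contra hcon
      push Not at hcon
      obtain ⟨b, hb, hb1, hba⟩ : ∃ b ∈ A l, b ≠ 1 ∧ b ≠ a := by
        by_contra hcon
        push Not at hcon
        have h4 := G.four hl
        have hsub : ((A l : Subgroup H) : Set H) ⊆ {1, a} := by
          intro b hb
          by_cases hb1 : b = 1
          · exact Or.inl hb1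
          · exact Or.inr (hcon b hb hb1)
        have : Nat.card (A l) ≤ 2 := by
          calc Nat.card (A l) = Set.ncard ((A l : Subgroup H) : Set H) := Nat.card_coe_set_eq _
            _ ≤ Set.ncard ({1, a} : Set H) := Set.ncard_le_ncard hsub
            _ ≤ 2 := (Set.ncard_insert_le _ _).trans (by rw [Set.ncard_singleton])
        omega
      obtain ⟨e, he1, he2, he3⟩ := G.sep1 hl ha hb hb1 hba
      obtain ⟨j, hj, hj1, hjb⟩ := G.s3 hl hm hE' hE hcon e he1
      have h1 := hjb a ha
      rw [he2, G.two] at h1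
      have h2 := star j hj (G.eq_of_add h1)
      have h3 := hjb b hb
      rw [G.fix hl hb h2, G.two, he3, add_comm e l, G.two_right] at h3
      exact G.ne_zero hl h3.symm
    obtain ⟨w, hw⟩ : ∃ w, w = a • m + m := ⟨_, rfl⟩
    have hwm : a • m = m + w := by rw [hw, add_comm (a • m) m, G.two_left]
    have haw : a • w = w := hw ▸ G.zfix hl ha ha m
    have hwE : al m w = 1 := hw ▸ hp a ha
    rcases (G.al_ker hm w).1 hwE a' ha'A with h1 | h1
    · -- `o` fixes `w` and `m`
      have h2 : (o * o) • w = w := by rw [← hoo, mul_smul, haw, h1]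
      have h3 : (o * o) • m = m + w := by rw [← hoo, mul_smul, hwm, smul_add, G.A_fix hm ha'A, h1]
      have hodd2 : Odd (orderOf (o * o)) := Odd.of_dvd_nat ho (by rw [← pow_two]; exact orderOf_pow_dvd 2)
      have h4 : (o * o) • m = m := by
        apply smul_of_sq hodd2
        rw [mul_smul, h3, smul_add, h3, h2, G.two_right]
      have h5 := smul_of_sq ho h4
      apply hol
      have h6 : o • m = o • l := by rw [h5, hme]
      exact smul_left_cancel o h6
    · -- `⟨l, w'⟩` is invariant
      obtain ⟨w', hw'⟩ : ∃ w', w' = t • w := ⟨_, rfl⟩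
      have h2 : w' = a' • l + l := by
        rw [hw', hw, smul_add, htm, ← mul_smul, ← ha't, mul_smul, htm]
      have h3 : a • w' = w' + l := by
        rw [hw', ← mul_smul, hat, mul_smul, h1, smul_add, htm]
      have h4 : a' • l = l + w' := by rw [h2, add_comm (a' • l) l, G.two_left]
      have h5 : a' • w' = w' := h2 ▸ G.zfix hm ha'A ha'A l
      have h6 : (o * o) • l = l + w' := by rw [← hoo, mul_smul, G.A_fix hl ha, h4]
      have h7 : (o * o) • w' = l := by
        rw [← hoo, mul_smul, h3, smul_add, h5, h4, add_comm l w', G.two_left]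
      have h8 : (o * o) • (l + w') = w' := by rw [smul_add, h6, h7, add_comm l w', G.two_right]
      obtain ⟨k, hk⟩ := exists_sq_pow ho
      have key : ∀ k : ℕ, (o * o) ^ k • l = l ∨ (o * o) ^ k • l = l + w' ∨ (o * o) ^ k • l = w' := by
        intro k
        induction k with
        | zero => left; rw [pow_zero, one_smul]
        | succ k ih =>
          rw [pow_succ', mul_smul]
          rcases ih with ih | ih | ih
          · rw [ih, h6]; right; left; rfl
          · rw [ih, h8]; right; right; rfl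
          · rw [ih, h7]; left; rfl
      have h9 : m = l ∨ m = l + w' ∨ m = w' := by
        have := key k
        rw [← hk, ← hme] at this
        exact this
      have hmfix := G.A_fix hm ha'A
      rcases h9 with h9 | h9 | h9
      · exact hol h9
      · rw [h9, smul_add, h4, h5, G.two_right] at hmfix
        exact hol (h9.trans hmfix.symm)
      · rw [← h9] at h3
        apply hE
        have : w = l := by rw [hw, h3, add_comm m l, G.two_right]
        rw [← this]
        exact hwE

end Gen

end Cfsg.Agent.Omega.NO3S.TwoOne.PP
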